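import Mathlib.Topology.NoetherianSpace
import Mathlib.Topology.Sober

/-!
# Open subsets of Noetherian sober spaces

`isOpen_of_generization_of_nhd_closure`: a subset `E` of a Noetherian sober space which is stable under generization and
contains, with every point `x`, a neighbourhood of `x` in the closure of `x`, is open.
-/

set_option autoImplicit false

open TopologicalSpace

namespace Groth.Agent.Pic13.H966.Topo

/-- The topological criterion (EGA 0_III 9.2.5). -/
theorem isOpen_of_generization_of_nhd_closure {X : Type*} [TopologicalSpace X] [NoetherianSpace X] [QuasiSober X]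
    (E : Set X) (h1 : ∀ x y : X, x ⤳ y → y ∈ E → x ∈ E)
    (h2 : ∀ x ∈ E, ∃ U : Set X, IsOpen U ∧ x ∈ U ∧ U ∩ closure {x} ⊆ E) : IsOpen E := by
  have key : ∀ Z : Closeds X, ∀ x ∈ E, x ∈ Z → ∃ W : Set X, IsOpen W ∧ x ∈ W ∧ W ∩ (Z : Set X) ⊆ E := by
    intro Z
    refine (wellFounded_lt (α := Closeds X)).induction (C := fun Z => ∀ x ∈ E, x ∈ Z →
      ∃ W : Set X, IsOpen W ∧ x ∈ W ∧ W ∩ (Z : Set X) ⊆ E) Z ?_
    · intro Z ih x hx hxZ
      by_cases hirr : IsPreirreducible (Z : Set X)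
      · obtain ⟨η, hη⟩ := QuasiSober.sober (⟨⟨x, hxZ⟩, hirr⟩ : IsIrreducible (Z : Set X)) Z.2
        have hηx : η ⤳ x := hη.specializes hxZ
        obtain ⟨U, hU, hηU, hUE⟩ := h2 η (h1 η x hηx hx)
        rw [hη.def] at hUE
        let Z' : Closeds X := ⟨(Z : Set X) ∩ Uᶜ, Z.2.inter hU.isClosed_compl⟩
        have hlt : Z' < Z := by
          refine lt_of_le_of_ne (fun y hy => hy.1) fun h => ?_
          have : η ∈ Z' := by
            rw [h]
            exact hη.mem
          exact this.2 hηU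
        by_cases hxU : x ∈ U
        · exact ⟨U, hU, hxU, hUE⟩
        · obtain ⟨W, hW, hxW, hWE⟩ := ih Z' hlt x hx ⟨hxZ, hxU⟩
          refine ⟨W, hW, hxW, fun y hy => ?_⟩
          by_cases hyU : y ∈ U
          · exact hUE ⟨hyU, hy.2⟩
          · exact hWE ⟨hy.1, hy.2, hyU⟩
      · rw [isPreirreducible_iff_isClosed_union_isClosed] at hirr
        push Not at hirr
        obtain ⟨z₁, z₂, hz₁, hz₂, hZ, hn₁, hn₂⟩ := hirr
        have step : ∀ z : Set X, IsClosed z → ¬ (Z : Set X) ⊆ z →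
            ∃ W : Set X, IsOpen W ∧ x ∈ W ∧ W ∩ ((Z : Set X) ∩ z) ⊆ E := by
          intro z hz hn
          by_cases hxz : x ∈ z
          · have hle : (⟨(Z : Set X) ∩ z, Z.2.inter hz⟩ : Closeds X) ≤ Z := fun y hy => hy.1
            refine ih ⟨(Z : Set X) ∩ z, Z.2.inter hz⟩ (lt_of_le_of_ne hle fun h => hn ?_) x hx ⟨hxZ, hxz⟩
            intro y hy
            have : y ∈ (⟨(Z : Set X) ∩ z, Z.2.inter hz⟩ : Closeds X) := by
              rw [h]
              exact hy
            exact this.2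
          · exact ⟨zᶜ, hz.isOpen_compl, hxz, fun y hy => (hy.1 hy.2.2).elim⟩
        obtain ⟨W₁, hW₁, hx₁, hE₁⟩ := step z₁ hz₁ hn₁
        obtain ⟨W₂, hW₂, hx₂, hE₂⟩ := step z₂ hz₂ hn₂
        refine ⟨W₁ ∩ W₂, hW₁.inter hW₂, ⟨hx₁, hx₂⟩, fun y hy => ?_⟩
        rcases hZ hy.2 with h | h
        · exact hE₁ ⟨hy.1.1, hy.2, h⟩
        · exact hE₂ ⟨hy.1.2, hy.2, h⟩
  rw [isOpen_iff_mem_nhds]
  intro x hx
  obtain ⟨W, hW, hxW, hWE⟩ := key ⊤ x hx trivial
  exact Filter.mem_of_superset (hW.mem_nhds hxW) fun y hy => hWE ⟨hy, trivial⟩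

end Groth.Agent.Pic13.H966.Topo
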