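import Groth.Agent.Ega2.LimPic
import Groth.Agent.Ega3B.LimInv3
import Groth.Agent.FormalA.PullbackQC
import Groth.Agent.Fdesc.LocGenTensor

/-!
# Spreading out algebraic equivalences of invertible classes over a limit of base schemes

Let `f : X ⟶ S` be a morphism of schemes. `PreData f B` (for `B` a scheme over `S`) consists of a `B`-scheme `T` of finite
presentation, an invertible class `M` on `X ×_S T` and two sections `t, t₀` of `T ⟶ B`; `x = M_t`, `x₀ = M_{t₀}` are classes on
`X ×_S B`.

* `PreData.bc` base change, `PreData.Hom` base change squares;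
* `exists_stage`: over a cofiltered limit of qcqs `S`-schemes with affine transition maps every `PreData` comes from a
  stage (`f` qcqs);
* `exists_stage_eq`: if moreover `x` comes from a given class `ξ₀` on a stage and `x₀` is the trivial class then the same
  holds at some stage.
-/

set_option autoImplicit false
set_option backward.isDefEq.respectTransparency false
set_option backward.defeqAttrib.useBackward true
universe u

open CategoryTheory CategoryTheory.Limits AlgebraicGeometry Opposite

namespace Groth.Agent.Pic13.H966.Stage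

open Groth.Agent.Ega2.LimPic Groth.Agent.CalgA.LimFP Groth.Agent.Picfga.HilbPull

variable {X S : Scheme.{u}} (f : X ⟶ S)

/-- A finitely presented family of classes with two sections. -/
structure PreData (B : Over S) where
  /-- parameter scheme -/
  T : Over S
  /-- structure morphism -/
  q : T ⟶ B
  lfp : LocallyOfFinitePresentation q.left
  qc : QuasiCompact q.left
  qs : QuasiSeparated q.left
  /-- the class -/
  M : PicF.Cl (PicF.XT f T)
  hM : PicF.IsInvertibleCl M
  /-- first section -/
  t : B ⟶ T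
  /-- second section -/
  t₀ : B ⟶ T
  ht : t ≫ q = 𝟙 B
  ht₀ : t₀ ≫ q = 𝟙 B

attribute [local instance] PreData.lfp PreData.qc PreData.qs

variable {f}

namespace PreData

/-- The class `M_t`. -/
noncomputable def x {B : Over S} (A : PreData f B) : PicF.Cl (PicF.XT f B) :=
  PicF.pullCl (PicF.XTmap f A.t) A.M

/-- The class `M_{t₀}`. -/
noncomputable def x₀ {B : Over S} (A : PreData f B) : PicF.Cl (PicF.XT f B) :=
  PicF.pullCl (PicF.XTmap f A.t₀) A.M

lemma isInvertibleCl_x {B : Over S} (A : PreData f B) : PicF.IsInvertibleCl A.x :=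
  isInvertibleCl_pullCl _ A.hM

lemma isInvertibleCl_x₀ {B : Over S} (A : PreData f B) : PicF.IsInvertibleCl A.x₀ :=
  isInvertibleCl_pullCl _ A.hM

/-- Base change squares. -/
structure Hom {B B' : Over S} (b : B' ⟶ B) (A' : PreData f B') (A : PreData f B) where
  /-- the projection -/
  p : A'.T ⟶ A.T
  h : IsPullback p.left A'.q.left A.q.left b.left
  hM : PicF.pullCl (PicF.XTmap f p) A.M = A'.M
  wt : A'.t ≫ p = b ≫ A.t
  wt₀ : A'.t₀ ≫ p = b ≫ A.t₀

lemma Hom.x {B B' : Over S} {b : B' ⟶ B} {A' : PreData f B'} {A : PreData f B} (u : Hom b A' A) :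
    A'.x = PicF.pullCl (PicF.XTmap f b) A.x := by
  rw [PreData.x, PreData.x, ← u.hM, ← pullCl_comp, ← pullCl_comp, ← XTmap_comp, ← XTmap_comp, u.wt]

lemma Hom.x₀ {B B' : Over S} {b : B' ⟶ B} {A' : PreData f B'} {A : PreData f B} (u : Hom b A' A) :
    A'.x₀ = PicF.pullCl (PicF.XTmap f b) A.x₀ := by
  rw [PreData.x₀, PreData.x₀, ← u.hM, ← pullCl_comp, ← pullCl_comp, ← XTmap_comp, ← XTmap_comp, u.wt₀]

section bc

variable {B B' : Over S} (A : PreData f B) (b : B' ⟶ B)

/-- The base change of the parameter scheme. -/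
noncomputable abbrev bcT : Over S := Over.mk (pullback.snd A.q.left b.left ≫ B'.hom)

/-- Its projection to the base. -/
noncomputable abbrev bcq : bcT A b ⟶ B' := Over.homMk (pullback.snd A.q.left b.left) rfl

/-- Its projection to the parameter scheme. -/
noncomputable abbrev bcp : bcT A b ⟶ A.T := Over.homMk (pullback.fst A.q.left b.left) (by
  dsimp
  rw [← Over.w b, ← Over.w A.q, ← Category.assoc, ← Category.assoc, pullback.condition])

/-- Base change of a section. -/
noncomputable abbrev bcs (s : B ⟶ A.T) (hs : s ≫ A.q = 𝟙 B) : B' ⟶ bcT A b :=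
  Over.homMk (pullback.lift (b.left ≫ s.left) (𝟙 B'.left) (by
    have := congrArg CommaMorphism.left hs
    dsimp at this
    rw [Category.assoc, this, Category.id_comp, Category.comp_id])) (by
    dsimp
    rw [pullback.lift_snd_assoc, Category.id_comp])

/-- Base change. -/
noncomputable def bc : PreData f B' where
  T := bcT A b
  q := bcq A b
  lfp := inferInstanceAs (LocallyOfFinitePresentation (pullback.snd A.q.left b.left))
  qc := inferInstanceAs (QuasiCompact (pullback.snd A.q.left b.left))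
  qs := inferInstanceAs (QuasiSeparated (pullback.snd A.q.left b.left))
  M := PicF.pullCl (PicF.XTmap f (bcp A b)) A.M
  hM := isInvertibleCl_pullCl _ A.hM
  t := bcs A b A.t A.ht
  t₀ := bcs A b A.t₀ A.ht₀
  ht := by
    apply Over.OverMorphism.ext
    exact pullback.lift_snd _ _ _
  ht₀ := by
    apply Over.OverMorphism.ext
    exact pullback.lift_snd _ _ _

/-- The base change square. -/
noncomputable def bcHom : Hom b (A.bc b) A where
  p := bcp A b
  h := IsPullback.of_hasPullback A.q.left b.left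
  hM := rfl
  wt := by
    apply Over.OverMorphism.ext
    exact pullback.lift_fst _ _ _
  wt₀ := by
    apply Over.OverMorphism.ext
    exact pullback.lift_fst _ _ _

omit A b in
lemma hom_ext_aux {T₁ B₁ B₂ T₂ B₃ : Scheme.{u}} {q : T₁ ⟶ B₁} {b : B₂ ⟶ B₁} {l : T₂ ⟶ pullback q b} {s : B₃ ⟶ T₂}
    {s' : B₂ ⟶ pullback q b} {r : B₃ ⟶ B₂} (h1 : s ≫ (l ≫ pullback.fst q b) = r ≫ (s' ≫ pullback.fst q b))
    (h2 : s ≫ (l ≫ pullback.snd q b) = r ≫ (s' ≫ pullback.snd q b)) : s ≫ l = r ≫ s' :=
  pullback.hom_ext (by simpa using h1) (by simpa using h2)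

/-- Factorisation of base change squares. -/
noncomputable def Hom.lift {A : PreData f B} {B'' : Over S} {b : B' ⟶ B} {A'' : PreData f B''} {b' : B'' ⟶ B} (u : Hom b' A'' A)
    {r : B'' ⟶ B'} (hr : r ≫ b = b') : Hom r A'' (A.bc b) where
  p := Over.homMk (pullback.lift u.p.left (A''.q.left ≫ r.left) (by
    rw [u.h.w, Category.assoc, ← hr, Over.comp_left])) (by
    dsimp [bc]
    rw [pullback.lift_snd_assoc, Category.assoc, Over.w r, Over.w])
  h := by
    refine IsPullback.of_right (h₁₂ := pullback.fst A.q.left b.left) (h₂₂ := b.left) (v₁₃ := A.q.left) ?_ ?_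
      (IsPullback.of_hasPullback A.q.left b.left)
    · dsimp
      rw [pullback.lift_fst, ← Over.comp_left, hr]
      exact u.h
    · exact pullback.lift_snd _ _ _
  hM := by
    change PicF.pullCl _ (PicF.pullCl _ _) = _
    rw [← pullCl_comp, ← XTmap_comp, ← u.hM]
    congr 2
    apply Over.OverMorphism.ext
    exact pullback.lift_fst _ _ _
  wt := by
    apply Over.OverMorphism.ext
    refine hom_ext_aux ?_ ?_
    · refine (congrArg (A''.t.left ≫ ·) (pullback.lift_fst _ _ _)).trans ?_
      refine Eq.trans ?_ (congrArg (r.left ≫ ·) (pullback.lift_fst _ _ _)).symm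
      exact congrArg CommaMorphism.left
        (u.wt.trans ((congrArg (· ≫ A.t) hr.symm).trans (Category.assoc _ _ _)))
    · refine (congrArg (A''.t.left ≫ ·) (pullback.lift_snd _ _ _)).trans ?_
      refine Eq.trans ?_ (congrArg (r.left ≫ ·) (pullback.lift_snd _ _ _)).symm
      have h := congrArg CommaMorphism.left A''.ht
      refine (Category.assoc _ _ _).symm.trans ((congrArg (· ≫ r.left) h).trans ?_)
      exact (Category.id_comp _).trans (Category.comp_id _).symm
  wt₀ := by
    apply Over.OverMorphism.ext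
    refine hom_ext_aux ?_ ?_
    · refine (congrArg (A''.t₀.left ≫ ·) (pullback.lift_fst _ _ _)).trans ?_
      refine Eq.trans ?_ (congrArg (r.left ≫ ·) (pullback.lift_fst _ _ _)).symm
      exact congrArg CommaMorphism.left
        (u.wt₀.trans ((congrArg (· ≫ A.t₀) hr.symm).trans (Category.assoc _ _ _)))
    · refine (congrArg (A''.t₀.left ≫ ·) (pullback.lift_snd _ _ _)).trans ?_
      refine Eq.trans ?_ (congrArg (r.left ≫ ·) (pullback.lift_snd _ _ _)).symm
      have h := congrArg CommaMorphism.left A''.ht₀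
      refine (Category.assoc _ _ _).symm.trans ((congrArg (· ≫ r.left) h).trans ?_)
      exact (Category.id_comp _).trans (Category.comp_id _).symm

end bc

end PreData

/-! ### Base change diagrams over `S` -/

section Diag

variable {I : Type u} [SmallCategory I] (D : I ⥤ Over S) {c : Cone D} {i : I} {A : Scheme.{u}} (g : A ⟶ (D.obj i).left)

/-- The diagram `j ↦ A ×[D i] D j` of `S`-schemes. -/
noncomputable def bcO : Over i ⥤ Over S where
  obj j := Over.mk (pullback.snd g (D.map j.hom).left ≫ (D.obj j.left).hom)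
  map {j k} a := Over.homMk ((bcDiagram (D ⋙ Over.forget S) g).map a) (by
    change pullback.lift (pullback.fst g (D.map j.hom).left) (pullback.snd g (D.map j.hom).left ≫ (D.map a.left).left) _ ≫
      pullback.snd g (D.map k.hom).left ≫ _ = _
    rw [pullback.lift_snd_assoc, Category.assoc, Over.w (D.map a.left)]
    rfl)
  map_id j := by
    apply Over.OverMorphism.ext
    exact (bcDiagram (D ⋙ Over.forget S) g).map_id j
  map_comp a b := by
    apply Over.OverMorphism.ext
    exact (bcDiagram (D ⋙ Over.forget S) g).map_comp a b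

variable {D g} {T : Over S} {q : T ⟶ c.pt} {p : T.left ⟶ A} (h : IsPullback p q.left g (c.π.app i).left)

/-- The cone with vertex `T`. -/
noncomputable def bcOC : Cone (bcO D g) where
  pt := T
  π :=
    { app j := Over.homMk ((bcCone (D := D ⋙ Over.forget S) (c := (Over.forget S).mapCone c) h).π.app j) (by
        change pullback.lift p (q.left ≫ (c.π.app j.left).left) _ ≫
          pullback.snd g (D.map j.hom).left ≫ _ = _
        rw [pullback.lift_snd_assoc, Category.assoc, Over.w (c.π.app j.left)]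
        exact Over.w q)
      naturality j k a := by
        apply Over.OverMorphism.ext
        exact (bcCone (D := D ⋙ Over.forget S) (c := (Over.forget S).mapCone c) h).π.naturality a }

/-- It is a limit cone. -/
noncomputable def isLimitBcOC [IsCofiltered I] (hc : IsLimit ((Over.forget S).mapCone c)) :
    IsLimit ((Over.forget S).mapCone (bcOC h)) :=
  isLimitBcCone (D := D ⋙ Over.forget S) (c := (Over.forget S).mapCone c) hc h

end Diag

section Stage

variable {I : Type u} [SmallCategory I] [IsCofiltered I] (D : I ⥤ Over S)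
  [∀ {i j} (a : i ⟶ j), IsAffineHom (D.map a).left]
  [∀ i, CompactSpace (D.obj i).left] [∀ i, QuasiSeparatedSpace (D.obj i).left]
  [QuasiCompact f] [QuasiSeparated f] (c : Cone D) (hc : IsLimit ((Over.forget S).mapCone c))

include hc in
/-- A section over the limit descends to a stage. -/
theorem exists_sec {i : I} {A : Scheme.{u}} (g : A ⟶ (D.obj i).left) [LocallyOfFinitePresentation g]
    (s : c.pt.left ⟶ A) (hs : s ≫ g = (c.π.app i).left) :
    ∃ (j : Over i) (s' : (D.obj j.left).left ⟶ A), (c.π.app j.left).left ≫ s' = s ∧ s' ≫ g = (D.map j.hom).left := by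
  let D' : Over i ⥤ Scheme.{u} := Over.forget i ⋙ D ⋙ Over.forget S
  have h1 : ∀ {j k : Over i} (a : j ⟶ k), IsAffineHom (D'.map a) := fun a =>
    inferInstanceAs (IsAffineHom (D.map a.left).left)
  have h2 : ∀ j : Over i, CompactSpace (D'.obj j) := fun j =>
    inferInstanceAs (CompactSpace (D.obj j.left).left)
  have h3 : ∀ j : Over i, QuasiSeparatedSpace (D'.obj j) := fun j =>
    inferInstanceAs (QuasiSeparatedSpace (D.obj j.left).left)
  let t : D' ⟶ (Functor.const (Over i)).obj (D.obj i).left :=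
    { app := fun j => (D.map j.hom).left
      naturality := fun j k a => by
        dsimp [D']
        rw [Category.comp_id, ← Over.comp_left, ← D.map_comp, Over.w a] }
  let c' : Cone D' := ((Over.forget S).mapCone c).whisker (Over.forget i)
  have hc' : IsLimit c' := (Functor.Initial.isLimitWhiskerEquiv (Over.forget i) _).symm hc
  obtain ⟨j, s', h, h'⟩ := Scheme.exists_π_app_comp_eq_of_locallyOfFinitePresentation
    D' t g c' hc' s (by
      ext j
      simp only [NatTrans.comp_app, Functor.const_obj_obj, Functor.const_map_app, t, c']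
      change (c.π.app j.left).left ≫ (D.map j.hom).left = s ≫ g
      rw [hs, ← Over.comp_left, c.w])
  exact ⟨j, s', h, h'⟩

include hc in
/-- Every `PreData` over the limit comes from a stage. -/
theorem exists_stage (A : PreData f c.pt) (i₀ : I) :
    ∃ (j : I) (_ : j ⟶ i₀) (A' : PreData f (D.obj j)), Nonempty (PreData.Hom (c.π.app j) A A') := by
  have g1 : ∀ {i j : I} (a : i ⟶ j), IsAffineHom ((D ⋙ Over.forget S).map a) := fun a =>
    inferInstanceAs (IsAffineHom (D.map a).left)
  have g2 : ∀ i, CompactSpace ((D ⋙ Over.forget S).obj i) := fun i =>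
    inferInstanceAs (CompactSpace (D.obj i).left)
  have g3 : ∀ i, QuasiSeparatedSpace ((D ⋙ Over.forget S).obj i) := fun i =>
    inferInstanceAs (QuasiSeparatedSpace (D.obj i).left)
  -- a model of the parameter scheme
  have := A.lfp
  have := A.qc
  have := A.qs
  obtain ⟨i', ⟨N'⟩⟩ := Groth.Agent.Ega3B.LimInv.exists_mdl (D := D ⋙ Over.forget S)
    (c := (Over.forget S).mapCone c) hc (f' := A.q.left)
  obtain ⟨i, ai, ai₀, -⟩ := IsCofilteredOrEmpty.cone_objs i' i₀
  let N := N'.bc ai
  have := N.lfp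
  have := N.qc
  have := N.qs
  have hN : IsPullback N.p A.q.left N.f (c.π.app i).left := N.h
  -- the class
  have k1 : ∀ {j k : Over i} (a : j ⟶ k), IsAffineHom ((bcO D N.f).map a).left := fun a =>
    isAffineHom_bcDiagram_map (D := D ⋙ Over.forget S) (f := N.f) a
  have k2 : ∀ j : Over i, CompactSpace ((bcO D N.f).obj j).left := fun j =>
    compactSpace_bcDiagram_obj (D := D ⋙ Over.forget S) (f := N.f) j
  have k3 : ∀ j : Over i, QuasiSeparatedSpace ((bcO D N.f).obj j).left := fun j =>
    quasiSeparatedSpace_bcDiagram_obj (D := D ⋙ Over.forget S) (f := N.f) j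
  obtain ⟨j₁, M₁, hM₁, e₁⟩ := exists_cl f (bcO D N.f) (bcOC hN) (isLimitBcOC hN hc) A.M A.hM
  -- the sections
  have hs : ∀ s : c.pt ⟶ A.T, s ≫ A.q = 𝟙 _ → (s.left ≫ N.p) ≫ N.f = (c.π.app i).left := by
    intro s hs
    rw [Category.assoc, hN.w, ← Category.assoc, ← Over.comp_left, hs]
    exact Category.id_comp _
  obtain ⟨j₂, s₂, h₂, h₂'⟩ := exists_sec D c hc N.f (A.t.left ≫ N.p) (hs _ A.ht)
  obtain ⟨j₃, s₃, h₃, h₃'⟩ := exists_sec D c hc N.f (A.t₀.left ≫ N.p) (hs _ A.ht₀)
  obtain ⟨j₄, a₂, a₃, -⟩ := IsCofilteredOrEmpty.cone_objs j₂ j₃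
  obtain ⟨j, a₄, a₁, -⟩ := IsCofilteredOrEmpty.cone_objs j₄ j₁
  -- the sections at the common stage
  let sec : ∀ (j' : Over i) (_ : j ⟶ j') (s : (D.obj j'.left).left ⟶ N.A) (_ : s ≫ N.f = (D.map j'.hom).left),
      D.obj j.left ⟶ (bcO D N.f).obj j := fun j' a s hs => Over.homMk
    (pullback.lift ((D.map a.left).left ≫ s) (𝟙 _) (by
      rw [Category.assoc, hs, Category.id_comp, ← Over.comp_left, ← D.map_comp, Over.w a])) (by
    dsimp [bcO]
    rw [pullback.lift_snd_assoc, Category.id_comp])
  have secq : ∀ j' a s hs, sec j' a s hs ≫ Over.homMk (pullback.snd N.f (D.map j.hom).left) rfl = 𝟙 _ := by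
    intro j' a s hs
    apply Over.OverMorphism.ext
    exact pullback.lift_snd _ _ _
  have secp : ∀ j' a s hs (t : c.pt ⟶ A.T) (_ : t ≫ A.q = 𝟙 _) (_ : (c.π.app j'.left).left ≫ s = t.left ≫ N.p),
      t ≫ (bcOC hN).π.app j = c.π.app j.left ≫ sec j' a s hs := by
    intro j' a s hs t ht h
    apply Over.OverMorphism.ext
    apply pullback.hom_ext
    · change (t.left ≫ pullback.lift N.p _ _) ≫ pullback.fst _ _ =
        ((c.π.app j.left).left ≫ pullback.lift _ _ _) ≫ pullback.fst _ _
      rw [Category.assoc, Category.assoc, pullback.lift_fst, pullback.lift_fst, ← h, ← Category.assoc,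
        ← Over.comp_left, c.w]
    · change (t.left ≫ pullback.lift N.p _ _) ≫ pullback.snd _ _ =
        ((c.π.app j.left).left ≫ pullback.lift _ _ _) ≫ pullback.snd _ _
      rw [Category.assoc, Category.assoc, pullback.lift_snd, pullback.lift_snd, ← Category.assoc,
        ← Over.comp_left, ht]
      exact (Category.id_comp _).trans (Category.comp_id _).symm
  refine ⟨j.left, j.hom ≫ ai₀, 
    { T := (bcO D N.f).obj j
      q := Over.homMk (pullback.snd N.f (D.map j.hom).left) rfl
      lfp := inferInstanceAs (LocallyOfFinitePresentation (pullback.snd N.f (D.map j.hom).left))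
      qc := inferInstanceAs (QuasiCompact (pullback.snd N.f (D.map j.hom).left))
      qs := inferInstanceAs (QuasiSeparated (pullback.snd N.f (D.map j.hom).left))
      M := PicF.pullCl (PicF.XTmap f ((bcO D N.f).map a₁)) M₁
      hM := isInvertibleCl_pullCl _ hM₁
      t := sec j₂ (a₄ ≫ a₂) s₂ h₂'
      t₀ := sec j₃ (a₄ ≫ a₃) s₃ h₃'
      ht := secq _ _ _ h₂'
      ht₀ := secq _ _ _ h₃' },
    ⟨{ p := (bcOC hN).π.app j
       h := (N.bc j.hom).h
       hM := ?_
       wt := secp _ _ _ h₂' _ A.ht h₂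
       wt₀ := secp _ _ _ h₃' _ A.ht₀ h₃ }⟩⟩
  rw [← e₁, ← pullCl_comp, ← XTmap_comp, (bcOC hN).w a₁]

include hc in
/-- Spreading out a `PreData` with prescribed `x` and trivial `x₀`. -/
theorem exists_stage_eq (A : PreData f c.pt) {i₀ : I} (ξ₀ : PicF.Cl (PicF.XT f (D.obj i₀))) (hξ₀ : PicF.IsInvertibleCl ξ₀)
    (hx : A.x = PicF.pullCl (PicF.XTmap f (c.π.app i₀)) ξ₀) (hx₀ : PicF.IsTrivialCl A.x₀) :
    ∃ (j : I) (a : j ⟶ i₀) (A' : PreData f (D.obj j)), Nonempty (PreData.Hom (c.π.app j) A A') ∧
      A'.x = PicF.pullCl (PicF.XTmap f (D.map a)) ξ₀ ∧ PicF.IsTrivialCl A'.x₀ := by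
  obtain ⟨j, a, A', ⟨u⟩⟩ := exists_stage D c hc A i₀
  -- first equality
  have e : PicF.pullCl (PicF.XTmap f (c.π.app j)) A'.x =
      PicF.pullCl (PicF.XTmap f (c.π.app j)) (PicF.pullCl (PicF.XTmap f (D.map a)) ξ₀) := by
    rw [← u.x, hx, ← pullCl_comp, ← XTmap_comp, c.w]
  obtain ⟨k, b, e'⟩ := exists_eq f D c hc A'.isInvertibleCl_x (isInvertibleCl_pullCl _ hξ₀) e
  -- second equality
  have triv : ∀ {B B' : Over S} (b : B' ⟶ B), PicF.pullCl (PicF.XTmap f b) (PicF.cl (Coh.structureModule (PicF.XT f B))) =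
      PicF.cl (Coh.structureModule (PicF.XT f B')) := fun b =>
    Quot.sound ⟨Groth.Agent.FormalA.PullbackQC.pullbackUnitIso _⟩
  have e₀ : PicF.pullCl (PicF.XTmap f (c.π.app j)) A'.x₀ =
      PicF.pullCl (PicF.XTmap f (c.π.app j)) (PicF.cl (Coh.structureModule (PicF.XT f (D.obj j)))) := by
    rw [← u.x₀, hx₀, triv]
    rfl
  obtain ⟨k₀, b₀, e₀'⟩ := exists_eq f D c hc A'.isInvertibleCl_x₀ ⟨_, rfl, Groth.Agent.Fdesc.LocGen.isInvertible_structureModule⟩ e₀
  obtain ⟨l, r, r₀, hr⟩ := IsCofiltered.cospan b b₀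
  refine ⟨l, (r ≫ b) ≫ a, A'.bc (D.map (r ≫ b)), ⟨u.lift (c.w (r ≫ b))⟩, ?_, ?_⟩
  · have h2 : ∀ ζ : PicF.Cl (PicF.XT f (D.obj j)), PicF.pullCl (PicF.XTmap f (D.map (r ≫ b))) ζ =
        PicF.pullCl (PicF.XTmap f (D.map r)) (PicF.pullCl (PicF.XTmap f (D.map b)) ζ) := fun ζ => by
      rw [← pullCl_comp, ← XTmap_comp, D.map_comp]
    rw [(A'.bcHom _).x, h2, e', ← h2, ← pullCl_comp, ← XTmap_comp, ← D.map_comp]
  · rw [(A'.bcHom _).x₀, hr, D.map_comp, XTmap_comp, pullCl_comp, e₀', ← pullCl_comp, ← XTmap_comp]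
    exact triv _

end Stage

end Groth.Agent.Pic13.H966.Stage
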