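import Groth.Prelude.Def_Pic13
import Groth.Agent.Pic13.H966.Stage
import Mathlib.AlgebraicGeometry.Noetherian

/-!
# Algebraic equivalence to zero on a geometric fibre in terms of `PreData`

`f : X ⟶ S`, `σ : Spec Ω ⟶ S` (`Ω` a field).  A module `N` on `X_Ω = X ×_S Spec Ω` is algebraically equivalent to zero over
`Ω` iff there is `A : PreData f (Over.mk σ)` with connected parameter scheme, `A.x = [N]` and `A.x₀` trivial.
-/

set_option autoImplicit false
set_option backward.isDefEq.respectTransparency false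
set_option backward.defeqAttrib.useBackward true
universe u

open CategoryTheory CategoryTheory.Limits AlgebraicGeometry Opposite

namespace Groth.Agent.Pic13.H966.Conv

open Groth.Agent.Ega2.LimPic Groth.Agent.Pic13.H966.Stage

variable {X S : Scheme.{u}} (f : X ⟶ S) {Ω : Type u} [Field Ω] (σ : Spec (CommRingCat.of Ω) ⟶ S)

/-- The geometric fibre as a scheme over `Spec Ω`. -/
noncomputable abbrev fibOver : (pullback f σ).Over (Spec (CommRingCat.of Ω)) := ⟨pullback.snd f σ⟩

theorem exists_preData {N : (pullback f σ).Modules} (h : @Pic13.IsAlgEquivZero Ω _ (pullback f σ) (fibOver f σ) N) :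
    ∃ A : PreData f (Over.mk σ), ConnectedSpace A.T.left ∧ A.x = PicF.cl N ∧ PicF.IsTrivialCl A.x₀ := by
  obtain ⟨T, q, hT, hq1, hq2, M, hM, t, t₀, ht, ht₀, ⟨e⟩, ⟨e₀⟩⟩ := h
  let a : pullback (pullback.snd f σ) q ≅ pullback f (q ≫ σ) := pullbackLeftPullbackSndIso f σ q
  let TO : Over S := Over.mk (q ≫ σ)
  have key : ∀ (s : Spec (CommRingCat.of Ω) ⟶ T) (hs : s ≫ q = 𝟙 _) (w : s ≫ q ≫ σ = σ),
      PicF.XTmap f (Over.homMk s w : Over.mk σ ⟶ TO) =
        @Pic13.sliceAt Ω _ (pullback f σ) (fibOver f σ) T q s hs ≫ a.hom := by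
    intro s hs w
    apply pullback.hom_ext
    · refine (pullback.lift_fst _ _ _).trans ?_
      rw [Category.assoc]
      have h1 : a.hom ≫ pullback.fst f (q ≫ σ) = pullback.fst (pullback.snd f σ) q ≫ pullback.fst f σ :=
        pullbackLeftPullbackSndIso_hom_fst _ _ _
      refine Eq.trans ?_ (congrArg (@Pic13.sliceAt Ω _ (pullback f σ) (fibOver f σ) T q s hs ≫ ·) h1).symm
      refine Eq.trans ?_ (Category.assoc _ _ _)
      refine Eq.trans ?_ (congrArg (· ≫ pullback.fst f σ) (pullback.lift_fst _ _ _)).symm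
      exact (Category.comp_id _).trans (Category.id_comp _).symm
    · refine (pullback.lift_snd _ _ _).trans ?_
      rw [Category.assoc]
      have h1 : a.hom ≫ pullback.snd f (q ≫ σ) = pullback.snd (pullback.snd f σ) q :=
        pullbackLeftPullbackSndIso_hom_snd _ _ _
      refine Eq.trans ?_ (congrArg (@Pic13.sliceAt Ω _ (pullback f σ) (fibOver f σ) T q s hs ≫ ·) h1).symm
      exact (pullback.lift_snd _ _ _).symm
  have : LocallyOfFinitePresentation q := LocallyOfFinitePresentation.iff_locallyOfFiniteType.mpr hq1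
  have : IsLocallyNoetherian T := LocallyOfFiniteType.isLocallyNoetherian q
  have wt : t ≫ q ≫ σ = σ := by rw [← Category.assoc, ht, Category.id_comp]
  have wt₀ : t₀ ≫ q ≫ σ = σ := by rw [← Category.assoc, ht₀, Category.id_comp]
  refine ⟨{
    T := TO
    q := Over.homMk q rfl
    lfp := ‹_›
    qc := hq2
    qs := inferInstanceAs (QuasiSeparated q)
    M := PicF.pullCl a.inv (PicF.cl M)
    hM := isInvertibleCl_pullCl _ ⟨M, rfl, hM⟩
    t := Over.homMk t wt
    t₀ := Over.homMk t₀ wt₀
    ht := by ext1; exact ht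
    ht₀ := by ext1; exact ht₀ }, hT, ?_, ?_⟩
  · change PicF.pullCl (PicF.XTmap f (Over.homMk t wt : Over.mk σ ⟶ TO)) (PicF.pullCl a.inv (PicF.cl M)) = _
    rw [← pullCl_comp, key t ht wt, Category.assoc, Iso.hom_inv_id, Category.comp_id]
    exact Quot.sound ⟨e⟩
  · change PicF.pullCl (PicF.XTmap f (Over.homMk t₀ wt₀ : Over.mk σ ⟶ TO)) (PicF.pullCl a.inv (PicF.cl M)) = _
    rw [← pullCl_comp, key t₀ ht₀ wt₀, Category.assoc, Iso.hom_inv_id, Category.comp_id]
    exact Quot.sound ⟨e₀⟩

theorem isAlgEquivZero_of_preData {N : (pullback f σ).Modules} (A : PreData f (Over.mk σ)) (hc : ConnectedSpace A.T.left)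
    (hx : A.x = PicF.cl N) (hx₀ : PicF.IsTrivialCl A.x₀) :
    @Pic13.IsAlgEquivZero Ω _ (pullback f σ) (fibOver f σ) N := by
  have h1 := A.lfp
  have h2 := A.qc
  obtain ⟨M, hMA, hM⟩ := A.hM
  have w : A.q.left ≫ σ = A.T.hom := Over.w A.q
  let a : pullback (pullback.snd f σ) A.q.left ⟶ pullback f A.T.hom :=
    pullback.lift (pullback.fst _ _ ≫ pullback.fst f σ) (pullback.snd _ _) (by
      rw [Category.assoc, pullback.condition, ← w, ← Category.assoc, pullback.condition, Category.assoc])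
  have key : ∀ (s : Over.mk σ ⟶ A.T) (hs : s ≫ A.q = 𝟙 _) (hs' : s.left ≫ A.q.left = 𝟙 _),
      @Pic13.sliceAt Ω _ (pullback f σ) (fibOver f σ) _ A.q.left s.left hs' ≫ a = PicF.XTmap f s := by
    intro s hs hs'
    apply pullback.hom_ext
    · refine Eq.trans ?_ (pullback.lift_fst _ _ _).symm
      refine (Category.assoc _ _ _).trans ?_
      refine (congrArg (_ ≫ ·) (pullback.lift_fst _ _ _)).trans ?_
      refine (Category.assoc _ _ _).symm.trans ?_
      refine (congrArg (· ≫ pullback.fst f σ) (pullback.lift_fst _ _ _)).trans ?_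
      exact (Category.id_comp _).trans (Category.comp_id _).symm
    · refine Eq.trans ?_ (pullback.lift_snd _ _ _).symm
      refine (Category.assoc _ _ _).trans ?_
      refine (congrArg (_ ≫ ·) (pullback.lift_snd _ _ _)).trans ?_
      exact pullback.lift_snd _ _ _
  have ht : A.t.left ≫ A.q.left = 𝟙 _ := congrArg CommaMorphism.left A.ht
  have ht₀ : A.t₀.left ≫ A.q.left = 𝟙 _ := congrArg CommaMorphism.left A.ht₀
  refine ⟨A.T.left, A.q.left, hc, inferInstance, h2, (Scheme.Modules.pullback a).obj M,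
    Groth.Agent.Fdesc.LocGen.isInvertible_pullback a hM, A.t.left, A.t₀.left, ht, ht₀, ?_, ?_⟩
  · apply Groth.Agent.Picfga.LineDescent.cl_eq_iff.1
    change PicF.pullCl _ (PicF.pullCl a (PicF.cl M)) = _
    rw [← pullCl_comp, key A.t A.ht ht, hMA]
    exact hx
  · apply Groth.Agent.Picfga.LineDescent.cl_eq_iff.1
    change PicF.pullCl _ (PicF.pullCl a (PicF.cl M)) = _
    rw [← pullCl_comp, key A.t₀ A.ht₀ ht₀, hMA]
    exact hx₀

end Groth.Agent.Pic13.H966.Conv
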